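import Groth.Agent.GrpQ.H774.SliceSat
import Mathlib.AlgebraicGeometry.Morphisms.FinitePresentation

/-!
# Saturation of the flat locus of a slice: ring version
-/

set_option autoImplicit false
universe u
open CategoryTheory Limits AlgebraicGeometry TensorProduct

namespace Groth.Agent.GrpQ.H774.SliceRing

open Groth.Agent.Sga3C.FlatPt

theorem fromSpecStalk_Spec (S : CommRingCat.{u}) (x : Spec S) :
    (Spec S).fromSpecStalk x = Spec.map (Spec.stalkIso S x).inv ≫
      Spec.map (CommRingCat.ofHom (algebraMap S (Localization.AtPrime x.asIdeal))) := by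
  rw [Spec.fromSpecStalk_eq, ← Spec.map_comp, Spec.algebraMap_stalkIso_inv]

theorem isFlatAt_Spec_iff {R S : CommRingCat.{u}} (φ : R ⟶ S) (x : Spec S) :
    IsFlatAt (Spec.map φ) x ↔
      ((algebraMap S (Localization.AtPrime x.asIdeal)).comp φ.hom).Flat := by
  have h1 : IsFlatAt (Spec.map φ) x ↔ Flat (Spec.map (Spec.stalkIso S x).inv ≫
      Spec.map (φ ≫ CommRingCat.ofHom (algebraMap S (Localization.AtPrime x.asIdeal)))) := by
    rw [IsFlatAt, fromSpecStalk_Spec, Category.assoc, Spec.map_comp]
  rw [h1, MorphismProperty.cancel_left_of_respectsIso (P := @Flat), Flat.SpecMap_iff]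
  rfl

theorem isFlatAt_of_isIso_comp {X Y Z : Scheme.{u}} (e : X ⟶ Y) [IsIso e] (f : Y ⟶ Z) (x : X)
    (h : IsFlatAt (e ≫ f) x) : IsFlatAt f (e x) :=
  IsFlatAt.of_comp (isFlatAt_of_flat e x) h

/-- Flatness of `B → D ⊗[A] B` and of `pullback.snd`. -/
theorem flat_snd_iff (A B D : Type u) [CommRing A] [CommRing B] [CommRing D] [Algebra A B]
    [Algebra A D] :
    Flat (pullback.snd (Spec.map (CommRingCat.ofHom (algebraMap A D)))
      (Spec.map (CommRingCat.ofHom (algebraMap A B)))) ↔
      (Algebra.TensorProduct.includeRight : B →ₐ[A] D ⊗[A] B).toRingHom.Flat := by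
  rw [← pullbackSpecIso_hom_snd A D B, MorphismProperty.cancel_left_of_respectsIso (P := @Flat),
    Flat.SpecMap_iff]
  rfl

/-- Ring version of `SliceSat.exists_opens`. -/
theorem exists_away {A B D : Type u} [CommRing A] [CommRing B] [CommRing D] [Algebra A B]
    [Algebra A D] [Algebra.FinitePresentation A B] [Algebra.FinitePresentation A D]
    (hB : (Algebra.TensorProduct.includeRight : B →ₐ[A] B ⊗[A] B).toRingHom.Flat) (g : B →ₐ[A] D)
    (w : Ideal (D ⊗[A] B)) [w.IsPrime]
    (hw : ((algebraMap (D ⊗[A] B) (Localization.AtPrime w)).comp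
      (Algebra.TensorProduct.includeRight : B →ₐ[A] D ⊗[A] B).toRingHom).Flat) :
    ∃ c : D, c ∉ w.comap (Algebra.TensorProduct.includeLeft : D →ₐ[A] D ⊗[A] B) ∧
      (Algebra.TensorProduct.includeRight :
        B →ₐ[A] Localization.Away c ⊗[A] B).toRingHom.Flat := by
  let f : Spec (.of B) ⟶ Spec (.of A) := Spec.map (CommRingCat.ofHom (algebraMap A B))
  let m : Spec (.of D) ⟶ Spec (.of A) := Spec.map (CommRingCat.ofHom (algebraMap A D))
  let γ : Spec (.of D) ⟶ Spec (.of B) := Spec.map (CommRingCat.ofHom g.toRingHom)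
  have hγ : γ ≫ f = m := by
    rw [← Spec.map_comp, ← CommRingCat.ofHom_comp]
    congr 2
    exact g.comp_algebraMap
  have hf : LocallyOfFinitePresentation f := by
    rw [HasRingHomProperty.Spec_iff (P := @LocallyOfFinitePresentation)]
    exact (RingHom.finitePresentation_algebraMap (A := A) (B := B)).2 inferInstance
  have hm : LocallyOfFinitePresentation m := by
    rw [HasRingHomProperty.Spec_iff (P := @LocallyOfFinitePresentation)]
    exact (RingHom.finitePresentation_algebraMap (A := A) (B := D)).2 inferInstance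
  have hff : Flat (pullback.fst f f) := by
    rw [← pullbackSymmetry_hom_comp_snd f f]
    have : Flat (pullback.snd f f) := (flat_snd_iff A B B).2 hB
    infer_instance
  let w₀ : Spec (.of (D ⊗[A] B)) := ⟨w, inferInstance⟩
  let e := pullbackSpecIso A D B
  have h1 : IsFlatAt (pullback.snd m f) (e.inv w₀) := by
    refine isFlatAt_of_isIso_comp e.inv _ w₀ ?_
    rw [pullbackSpecIso_inv_snd, isFlatAt_Spec_iff]
    exact hw
  obtain ⟨U, hU, hU'⟩ := SliceSat.exists_opens' f γ m hγ _ h1
  have h2 : pullback.fst m f (e.inv w₀) = Spec.map (CommRingCat.ofHom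
      (Algebra.TensorProduct.includeLeftRingHom : D →+* D ⊗[A] B)) w₀ := by
    rw [← Scheme.Hom.comp_apply, pullbackSpecIso_inv_fst]
  obtain ⟨_, ⟨c, rfl⟩, hc, hcU⟩ :=
    PrimeSpectrum.isTopologicalBasis_basic_opens.exists_subset_of_mem_open hU U.isOpen
  refine ⟨c, ?_, ?_⟩
  · rw [h2] at hc
    exact hc
  · rw [← flat_snd_iff]
    let j : Spec (.of (Localization.Away c)) ⟶ Spec (.of D) :=
      Spec.map (CommRingCat.ofHom (algebraMap D (Localization.Away c)))
    have hj : Flat j := by
      rw [Flat.SpecMap_iff]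
      exact (RingHom.flat_algebraMap_iff (R := D) (S := Localization.Away c)).2
        (IsLocalization.flat _ (Submonoid.powers c))
    have hjm : j ≫ m = Spec.map (CommRingCat.ofHom (algebraMap A (Localization.Away c))) := by
      rw [← Spec.map_comp, ← CommRingCat.ofHom_comp, ← IsScalarTower.algebraMap_eq]
    rw [← hjm]
    refine hU' j fun x => hcU ?_
    have h3 : j x ∈ (PrimeSpectrum.basicOpen c : Set (PrimeSpectrum D)) := by
      rw [← PrimeSpectrum.localization_away_comap_range (Localization.Away c) c]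
      exact ⟨x, rfl⟩
    exact h3

end Groth.Agent.GrpQ.H774.SliceRing
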