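import Groth.Agent.Sga3C.FlatImage
import Groth.Agent.Sga3C.QuotProps
import Groth.Agent.Flat2D.LfpComp
import Groth.Agent.S0114
import Groth.Prelude.Def_AlgGrp

/-!
# The quotient of a group scheme by a flat kernel, from the factorisation (fppf cover, monomorphism)
-/

set_option autoImplicit false
universe u
open CategoryTheory MonoidalCategory CartesianMonoidalCategory MonObj GrpObj AlgebraicGeometry
  CategoryTheory.Limits

namespace Groth.Agent.GrpQ.H774.KerQuot

open Groth.Agent.Sga3C.QuotProps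

variable {S : Scheme.{u}}

/-- The self fibre product of a homomorphism with flat kernel is flat. -/
theorem flat_fst_self (G H : Over S) [GrpObj G] [GrpObj H] (u : G ⟶ H) [IsMonHom u]
    (hK : Flat (pullback u η[H]).hom) : Flat (pullback.fst u.left u.left) := by
  apply Groth.Agent.Sga3C.FlatImage.flat_fst_self u
  have h := (IsPullback.of_hasPullback u (η[H] : 𝟙_ (Over S) ⟶ H)).map (Over.forget S)
  have h2 : Flat (pullback.snd u (η[H] : 𝟙_ (Over S) ⟶ H)).left := by
    have h3 := Over.w (pullback.snd u (η[H] : 𝟙_ (Over S) ⟶ H))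
    have h4 : (𝟙_ (Over S)).hom = 𝟙 S := rfl
    rw [h4] at h3
    have h5 : (pullback.snd u (η[H] : 𝟙_ (Over S) ⟶ H)).left = (pullback u η[H]).hom :=
      (Category.comp_id _).symm.trans h3
    rw [h5]
    exact hK
  have h6 : (pullback.snd u (η[H] : 𝟙_ (Over S) ⟶ H)).left = h.isoPullback.hom ≫
      Limits.pullback.snd u.left (η[H] : 𝟙_ (Over S) ⟶ H).left := h.isoPullback_hom_snd.symm
  rw [h6] at h2
  exact (MorphismProperty.cancel_left_of_respectsIso (P := @Flat) _ _).1 h2

/-- A homomorphism `u = p ≫ i` with `p` an fppf cover and `i` a monomorphism: the middle term is a group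
scheme, the two morphisms are homomorphisms, and `p` has the same kernel as `u`. -/
theorem exists_grpObj (G H Q : Over S) [GrpObj G] [GrpObj H] (u : G ⟶ H) [IsMonHom u] (p : G ⟶ Q)
    (i : Q ⟶ H) (hpi : p ≫ i = u) [Flat p.left] [Surjective p.left]
    [LocallyOfFinitePresentation p.left] [Mono i] :
    ∃ _ : GrpObj Q, IsMonHom p ∧ IsMonHom i ∧ AlgGrp.IsKernel (pullback.fst u η[H]) p := by
  have f2 : Flat (p ⊗ₘ p).left := tensorHom_left_of (@Flat) p p ‹_› ‹_›
  have s2 : Surjective (p ⊗ₘ p).left := tensorHom_left_of (@Surjective) p p ‹_› ‹_›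
  have l2 : LocallyOfFinitePresentation (p ⊗ₘ p).left :=
    tensorHom_left_of (@LocallyOfFinitePresentation) p p ‹_› ‹_›
  have hμ : μ[G] ≫ p ≫ i = (p ⊗ₘ p) ≫ (i ⊗ₘ i) ≫ μ[H] := by
    rw [hpi, IsMonHom.mul_hom, ← Category.assoc, tensorHom_comp_tensorHom, hpi]
  have hι : ι[G] ≫ p ≫ i = p ≫ i ≫ ι[H] := by
    rw [hpi, ← Category.assoc, hpi]
    exact inv_hom u
  obtain ⟨m, hm⟩ := exists_desc (p ⊗ₘ p) (μ[G] ≫ p) (by
    intro T x y hxy
    rw [← cancel_mono i]
    simp only [Category.assoc]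
    rw [hμ, ← Category.assoc, hxy, Category.assoc])
  obtain ⟨v, hv⟩ := exists_desc p (ι[G] ≫ p) (by
    intro T x y hxy
    rw [← cancel_mono i]
    simp only [Category.assoc]
    rw [hι, ← Category.assoc, hxy, Category.assoc])
  have := epi_of_flat_surjective p
  have fl : Flat (𝟙 (𝟙_ (Over S)) ⊗ₘ p).left :=
    tensorHom_left_of (@Flat) _ p (by rw [Over.id_left]; infer_instance) ‹_›
  have sl : Surjective (𝟙 (𝟙_ (Over S)) ⊗ₘ p).left :=
    tensorHom_left_of (@Surjective) _ p (by rw [Over.id_left]; infer_instance) ‹_›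
  have fr : Flat (p ⊗ₘ 𝟙 (𝟙_ (Over S))).left :=
    tensorHom_left_of (@Flat) p _ ‹_› (by rw [Over.id_left]; infer_instance)
  have sr : Surjective (p ⊗ₘ 𝟙 (𝟙_ (Over S))).left :=
    tensorHom_left_of (@Surjective) p _ ‹_› (by rw [Over.id_left]; infer_instance)
  have f3 : Flat ((p ⊗ₘ p) ⊗ₘ p).left := tensorHom_left_of (@Flat) _ p ‹_› ‹_›
  have s3 : Surjective ((p ⊗ₘ p) ⊗ₘ p).left := tensorHom_left_of (@Surjective) _ p ‹_› ‹_›
  have := epi_of_flat_surjective (𝟙 (𝟙_ (Over S)) ⊗ₘ p)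
  have := epi_of_flat_surjective (p ⊗ₘ 𝟙 (𝟙_ (Over S)))
  have := epi_of_flat_surjective ((p ⊗ₘ p) ⊗ₘ p)
  have e2 := epi_of_flat_surjective (p ⊗ₘ p)
  obtain ⟨g, hg, -⟩ := Groth.Agent.Sga3C.QuotGrpObj.exists_grpObj p m hm v hv
    (fun _ _ => (cancel_epi _).mp) (fun _ _ => (cancel_epi _).mp)
    (fun _ _ => (cancel_epi _).mp) (fun _ _ => (cancel_epi _).mp)
  have hone : η[Q] ≫ i = η[H] := by
    rw [← IsMonHom.one_hom p, Category.assoc, hpi, IsMonHom.one_hom]
  refine ⟨g, hg, ⟨hone, ?_⟩, ?_⟩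
  · rw [← cancel_epi (p ⊗ₘ p), ← hμ, ← Category.assoc, ← IsMonHom.mul_hom p, Category.assoc]
  · -- the kernel
    have hK := IsPullback.of_hasPullback u (η[H] : 𝟙_ (Over S) ⟶ H)
    have hw : pullback.fst u η[H] ≫ p = toUnit _ ≫ η[Q] := by
      rw [← cancel_mono i, Category.assoc, Category.assoc, hpi, hone, pullback.condition]
      congr 1
      exact toUnit_unique _ _
    refine ⟨⟨hw⟩, ⟨PullbackCone.IsLimit.mk _
      (fun s => pullback.lift s.fst (toUnit _) (by
        rw [← hpi, ← Category.assoc, s.condition, Category.assoc, hone]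
        congr 1
        exact toUnit_unique _ _))
      (fun s => pullback.lift_fst _ _ _) (fun s => toUnit_unique _ _) ?_⟩⟩
    intro s m hm _
    apply pullback.hom_ext
    · rw [pullback.lift_fst, hm]
    · exact toUnit_unique _ _

/-- The quotient by a flat kernel, assuming the factorisation of the underlying morphism of schemes. -/
theorem exists_quotient (G H : Over S) [GrpObj G] [GrpObj H]
    [LocallyOfFinitePresentation G.hom] [LocallyOfFiniteType H.hom] (u : G ⟶ H) [IsMonHom u]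
    (hK : Flat (pullback u η[H]).hom)
    (hfact : ∀ {X Y : Scheme.{u}} (f : X ⟶ Y) [LocallyOfFinitePresentation f],
      Flat (Limits.pullback.fst f f) → ∃ (X' : Scheme.{u}) (f' : X ⟶ X') (f'' : X' ⟶ Y),
        Surjective f' ∧ Flat f' ∧ LocallyOfFinitePresentation f' ∧ Mono f'' ∧ f' ≫ f'' = f) :
    ∃ (Q : Over S) (_ : GrpObj Q) (p : G ⟶ Q) (i : Q ⟶ H), IsMonHom p ∧ IsMonHom i ∧ p ≫ i = u ∧
      Surjective p.left ∧ Flat p.left ∧ LocallyOfFinitePresentation p.left ∧ Mono i ∧
      LocallyOfFinitePresentation Q.hom ∧ AlgGrp.IsKernel (pullback.fst u η[H]) p := by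
  have h1 : LocallyOfFinitePresentation (u.left ≫ H.hom) := by rw [Over.w]; infer_instance
  have h2 : LocallyOfFinitePresentation u.left := Flat2D.LfpComp.lfp_of_comp u.left H.hom
  obtain ⟨X', f', f'', hs, hf, hl, hm, hff⟩ := hfact u.left (flat_fst_self G H u hK)
  let Q : Over S := Over.mk (f'' ≫ H.hom)
  let p : G ⟶ Q := Over.homMk f' (by
    change f' ≫ f'' ≫ H.hom = G.hom
    rw [← Category.assoc, hff, Over.w])
  let i : Q ⟶ H := Over.homMk f'' rfl
  have hpi : p ≫ i = u := by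
    ext1
    exact hff
  have hi : Mono i := by
    have : Mono i.left := hm
    exact Over.mono_of_mono_left i
  have hp1 : Flat p.left := hf
  have hp2 : Surjective p.left := hs
  have hp3 : LocallyOfFinitePresentation p.left := hl
  have hQ : LocallyOfFinitePresentation Q.hom := by
    have : LocallyOfFinitePresentation (p.left ≫ Q.hom) := by rw [Over.w]; infer_instance
    exact Groth.Agent.S0114.result p.left Q.hom
  obtain ⟨g, h3, h4, h5⟩ := exists_grpObj G H Q u p i hpi
  exact ⟨Q, g, p, i, h3, h4, hpi, hp2, hp1, hp3, hi, hQ, h5⟩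

end Groth.Agent.GrpQ.H774.KerQuot
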