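import Groth.Agent.Ega4dB.FlatRegC
import Mathlib.RingTheory.LocalRing.ResidueField.Fiber

/-!
# The slicing criterion of flatness for finitely presented algebras

`S` a finitely presented `R`-algebra flat over `R` at a prime `q` lying over `p`, `x ∈ q` a nonzerodivisor
on the fibre `κ(p) ⊗ S`: then `S / x` is flat over `R` at `q` (no Noetherian hypothesis).
-/

set_option autoImplicit false
universe u
open TensorProduct

namespace Groth.Agent.GrpQ.H774.SliceCrit

open Groth.Agent.Ega4dB Groth.Agent.Ega4dB.LocReg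

variable {A B : Type u} [CommRing A] [CommRing B] [Algebra A B]

/-- kernel of `B → κ(p) ⊗ B` -/
theorem exists_smul_mem_of_one_tmul_eq_zero (p : Ideal A) [p.IsPrime] (b : B)
    (hb : (1 : p.ResidueField) ⊗ₜ[A] b = 0) :
    ∃ a : A, a ∉ p ∧ a • b ∈ p.map (algebraMap A B) := by
  let := Algebra.TensorProduct.rightAlgebra (R := A) (A := p.ResidueField) (B := B)
  have h1 := (Ideal.Fiber.algEquivQuotient (S := B) p).commutes b
  have h2 : algebraMap B (p.Fiber B) b = (1 : p.ResidueField) ⊗ₜ[A] b := rfl
  rw [h2, hb, map_zero] at h1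
  have h3 := h1.symm
  rw [IsScalarTower.algebraMap_apply B (Localization (Algebra.algebraMapSubmonoid B p.primeCompl)),
    Ideal.Quotient.algebraMap_eq, Ideal.Quotient.eq_zero_iff_mem,
    ← Localization.AtPrime.map_eq_maximalIdeal, Ideal.map_map, ← IsScalarTower.algebraMap_eq,
    IsScalarTower.algebraMap_eq A B, ← Ideal.map_map,
    IsLocalization.algebraMap_mem_map_algebraMap_iff (Algebra.algebraMapSubmonoid B p.primeCompl)] at h3
  obtain ⟨_, ⟨a, ha, rfl⟩, h4⟩ := h3
  exact ⟨a, ha, by rwa [Algebra.smul_def]⟩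

theorem one_tmul_eq_zero_of_mem (p : Ideal A) [p.IsPrime] (c : B) (hc : c ∈ p.map (algebraMap A B)) :
    (1 : p.ResidueField) ⊗ₜ[A] c = 0 := by
  have h1 : p.map (algebraMap A B) ≤ RingHom.ker
      (Algebra.TensorProduct.includeRight : B →ₐ[A] p.Fiber B) := by
    rw [Ideal.map_le_iff_le_comap]
    intro a ha
    rw [Ideal.mem_comap, RingHom.mem_ker, AlgHom.commutes,
      IsScalarTower.algebraMap_apply A p.ResidueField (p.Fiber B),
      Ideal.algebraMap_residueField_eq_zero.2 ha, map_zero]
  exact h1 hc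

theorem flat_localizedModule_iff {E : Type u} [CommRing E] [Algebra A E] (M : Submonoid E) :
    Module.Flat A (LocalizedModule M E) ↔ Module.Flat A (Localization M) := by
  let e : LocalizedModule M E ≃ₗ[A] Localization M :=
    (IsLocalizedModule.linearEquiv M (LocalizedModule.mkLinearMap M E)
      (Algebra.linearMap E (Localization M))).restrictScalars A
  exact ⟨fun h => Module.Flat.of_linearEquiv e.symm, fun h => Module.Flat.of_linearEquiv e⟩

/-- **Slicing criterion** (finitely presented case). -/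
theorem flat_quotient [Algebra.FinitePresentation A B] (p : Ideal A) [p.IsPrime]
    (q : Ideal B) [q.IsPrime] [q.LiesOver p] (hflat : Module.Flat A (Localization.AtPrime q)) (x : B)
    (hx : (1 : p.ResidueField) ⊗ₜ[A] x ∈ nonZeroDivisors (p.Fiber B))
    (q' : Ideal (B ⧸ Ideal.span {x})) [q'.IsPrime] [q'.LiesOver q] :
    Module.Flat A (Localization.AtPrime q') := by
  have hxq : x ∈ q := by
    rw [‹q'.LiesOver q›.over, Ideal.under_def, Ideal.mem_comap]
    have : algebraMap B (B ⧸ Ideal.span {x}) x = 0 :=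
      Ideal.Quotient.eq_zero_iff_mem.2 (Ideal.mem_span_singleton_self x)
    rw [this]
    exact q'.zero_mem
  have hp : q.comap (algebraMap A B) = p := ‹q.LiesOver p›.over.symm
  obtain ⟨g, hg, hg'⟩ := FlatPolyFib.exists_notMem_single (A := A) (B := B) (M := B) x q hxq
    ((flat_localizedModule_iff q.primeCompl).2 hflat) (by
      intro m hm
      have htop : ∀ I : Ideal A, ∀ y : B, y ∈ (I • ⊤ : Submodule A B) ↔ y ∈ I.map (algebraMap A B) := by
        intro I y
        rw [Ideal.smul_top_eq_map]
        rfl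
      rw [htop, hp] at hm
      have h1 : ((1 : p.ResidueField) ⊗ₜ[A] x) * ((1 : p.ResidueField) ⊗ₜ[A] m) = 0 := by
        rw [Algebra.TensorProduct.tmul_mul_tmul, one_mul]
        exact one_tmul_eq_zero_of_mem p _ hm
      have h2 : (1 : p.ResidueField) ⊗ₜ[A] m = 0 :=
        (mem_nonZeroDivisors_iff.1 hx).1 _ h1
      obtain ⟨c, hc, h5⟩ := exists_smul_mem_of_one_tmul_eq_zero p m h2
      refine ⟨algebraMap A B c, fun hmem => hc ?_, ?_⟩
      · rw [← hp]
        exact hmem
      · rw [htop, hp, smul_eq_mul, ← Algebra.smul_def]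
        exact h5)
  have h1 : Module.Flat A (LocalizedModule q.primeCompl (QuotSMulTop x B)) := (hg' q hg).2.2
  -- `B ⧸ (x)` localized at `q`
  let e0 : QuotSMulTop x B ≃ₗ[B] (B ⧸ Ideal.span {x}) :=
    Submodule.quotEquivOfEq _ _ (by
      ext y
      rw [Submodule.mem_smul_pointwise_iff_exists, Ideal.mem_span_singleton']
      constructor
      · rintro ⟨b, -, rfl⟩
        exact ⟨b, by rw [smul_eq_mul, mul_comm]⟩
      · rintro ⟨b, rfl⟩
        exact ⟨b, trivial, by rw [smul_eq_mul, mul_comm]⟩)
  have h4 : Algebra.algebraMapSubmonoid (B ⧸ Ideal.span {x}) q.primeCompl = q'.primeCompl :=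
    Ideal.algebraMapSubmonoid_primeCompl_of_liesOver_surjective q' q
      Ideal.Quotient.mk_surjective
  have h5 : IsLocalizedModule q.primeCompl
      (IsScalarTower.toAlgHom B (B ⧸ Ideal.span {x}) (Localization.AtPrime q')).toLinearMap := by
    rw [isLocalizedModule_iff_isLocalization, h4]
    infer_instance
  have h6 : IsLocalizedModule q.primeCompl
      ((IsScalarTower.toAlgHom B (B ⧸ Ideal.span {x}) (Localization.AtPrime q')).toLinearMap ∘ₗ
        e0.toLinearMap) := inferInstance
  let e : LocalizedModule q.primeCompl (QuotSMulTop x B) ≃ₗ[B] Localization.AtPrime q' :=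
    IsLocalizedModule.linearEquiv q.primeCompl (LocalizedModule.mkLinearMap q.primeCompl _)
      ((IsScalarTower.toAlgHom B (B ⧸ Ideal.span {x}) (Localization.AtPrime q')).toLinearMap ∘ₗ
        e0.toLinearMap)
  exact Module.Flat.of_linearEquiv (e.restrictScalars A).symm

end Groth.Agent.GrpQ.H774.SliceCrit
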