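import Groth.Agent.Sga3C.FlatPt
import Groth.Agent.S0386
import Mathlib.AlgebraicGeometry.Morphisms.UniversallyOpen

/-!
# Saturation of the flat locus of a slice

`f : X ⟶ Y` with `X ×_Y X ⟶ X` flat and `g : T ⟶ X`. Flatness of `T ×_Y X ⟶ X` at a point `w` only
depends on the image of `w` in `T`, and the set of points of `T` over which `T ×_Y X ⟶ X` is flat
is open.
-/

set_option autoImplicit false
universe u
open CategoryTheory Limits AlgebraicGeometry

namespace Groth.Agent.GrpQ.H774.SliceSat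

open Groth.Agent.Sga3C.FlatPt

variable {X Y T : Scheme.{u}} (f : X ⟶ Y) (g : T ⟶ X)

theorem flat_snd_self [Flat (pullback.fst f f)] : Flat (pullback.snd f f) := by
  rw [← pullbackSymmetry_hom_comp_fst f f]
  infer_instance

/-- `T ×_Y X ⟶ T` is flat. -/
theorem flat_fst_comp [Flat (pullback.fst f f)] : Flat (pullback.fst (g ≫ f) f) := by
  have h : IsPullback (pullback.lift (pullback.fst (g ≫ f) f ≫ g) (pullback.snd (g ≫ f) f) (by
      rw [Category.assoc, pullback.condition]) : pullback (g ≫ f) f ⟶ pullback f f)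
      (pullback.fst (g ≫ f) f) (pullback.fst f f) g :=
    IsPullback.of_right (h₁₂ := pullback.snd f f) (v₁₃ := f) (h₂₂ := f)
      (by rw [pullback.lift_snd]; exact (IsPullback.of_hasPullback (g ≫ f) f).flip)
      (pullback.lift_fst _ _ _) (IsPullback.of_hasPullback f f).flip
  exact MorphismProperty.of_isPullback h ‹Flat (pullback.fst f f)›

theorem isFlatAt_of_eq [Flat (pullback.fst f f)] (w w' : ↑(pullback (g ≫ f) f))
    (h : pullback.fst (g ≫ f) f w = pullback.fst (g ≫ f) f w')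
    (hw : IsFlatAt (pullback.snd (g ≫ f) f) w) : IsFlatAt (pullback.snd (g ≫ f) f) w' := by
  have h1 := flat_snd_self f
  have h2 := flat_fst_comp f g
  let p := pullback.fst (g ≫ f) f
  let s := pullback.snd (g ≫ f) f
  have hps : p ≫ g ≫ f = s ≫ f := pullback.condition
  have hpp : pullback.fst p p ≫ p = pullback.snd p p ≫ p := pullback.condition
  obtain ⟨r, hr1, hr2⟩ := Scheme.Pullback.exists_preimage_pullback (f := p) (g := p) w w' h
  -- `T ×_Y X ×_Y X ⟶ X ×_Y X`
  let φ : pullback p p ⟶ pullback f f :=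
    pullback.lift (pullback.fst p p ≫ s) (pullback.snd p p ≫ s) (by
      rw [Category.assoc, Category.assoc, ← hps, reassoc_of% hpp])
  have hφ1 : φ ≫ pullback.fst f f = pullback.fst p p ≫ s := pullback.lift_fst _ _ _
  have hφ2 : φ ≫ pullback.snd f f = pullback.snd p p ≫ s := pullback.lift_snd _ _ _
  have hA : IsPullback (pullback.snd p p ≫ s) (pullback.fst p p) f (p ≫ (g ≫ f)) :=
    (IsPullback.of_hasPullback p p).flip.paste_horiz (IsPullback.of_hasPullback (g ≫ f) f).flip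
  have hB : IsPullback φ (pullback.fst p p) (pullback.fst f f) s :=
    IsPullback.of_right (h₁₂ := pullback.snd f f) (v₁₃ := f) (h₂₂ := f)
      (by rw [hφ2, ← hps]; exact hA) hφ1 (IsPullback.of_hasPullback f f).flip
  have h3 : IsFlatAt φ r := IsFlatAt.of_isPullback hB.flip r (by rw [hr1]; exact hw)
  have h4 : IsFlatAt (φ ≫ pullback.snd f f) r := h3.comp (isFlatAt_of_flat _ _)
  rw [hφ2] at h4
  have h5 : IsFlatAt s (pullback.snd p p r) :=
    IsFlatAt.of_comp (isFlatAt_of_flat (pullback.snd p p) r) h4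
  rwa [hr2] at h5

/-- The points of `T` over which `T ×_Y X ⟶ X` is flat form an open subset `U`; if `j : T' ⟶ T` is a
flat morphism with image in `U` then `T' ×_Y X ⟶ X` is flat. -/
theorem exists_opens [LocallyOfFinitePresentation f] [LocallyOfFinitePresentation (g ≫ f)]
    [Flat (pullback.fst f f)] (w : ↑(pullback (g ≫ f) f))
    (hw : IsFlatAt (pullback.snd (g ≫ f) f) w) :
    ∃ U : T.Opens, pullback.fst (g ≫ f) f w ∈ U ∧
      (∀ w' : ↑(pullback (g ≫ f) f), pullback.fst (g ≫ f) f w' ∈ U →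
        IsFlatAt (pullback.snd (g ≫ f) f) w') ∧
      ∀ {T' : Scheme.{u}} (j : T' ⟶ T) [Flat j], (∀ x, j x ∈ U) →
        Flat (pullback.snd (j ≫ g ≫ f) f) := by
  have h2 := flat_fst_comp f g
  let F : Set ↑(pullback (g ≫ f) f) := {w | ((pullback.snd (g ≫ f) f).stalkMap w).hom.Flat}
  have hF : IsOpen F := Groth.Agent.S0386.result (pullback.snd (g ≫ f) f)
  let U : T.Opens := ⟨pullback.fst (g ≫ f) f '' F, (pullback.fst (g ≫ f) f).isOpenMap _ hF⟩
  have hU : ∀ w' : ↑(pullback (g ≫ f) f), pullback.fst (g ≫ f) f w' ∈ U →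
      IsFlatAt (pullback.snd (g ≫ f) f) w' := by
    rintro w' ⟨w₁, hw₁, hw₁'⟩
    exact isFlatAt_of_eq f g w₁ w' hw₁' ((isFlatAt_iff_stalkMap _ _).2 hw₁)
  refine ⟨U, ⟨w, (isFlatAt_iff_stalkMap _ _).1 hw, rfl⟩, hU, fun {T'} j _ hj => ?_⟩
  let j' : pullback (j ≫ g ≫ f) f ⟶ pullback (g ≫ f) f :=
    pullback.map _ _ _ _ j (𝟙 X) (𝟙 Y) (by simp) (by simp)
  have hj1 : j' ≫ pullback.fst (g ≫ f) f = pullback.fst (j ≫ g ≫ f) f ≫ j :=
    pullback.lift_fst _ _ _
  have hj2 : j' ≫ pullback.snd (g ≫ f) f = pullback.snd (j ≫ g ≫ f) f :=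
    (pullback.lift_snd _ _ _).trans (Category.comp_id _)
  have hj3 : IsPullback j' (pullback.fst (j ≫ g ≫ f) f) (pullback.fst (g ≫ f) f) j :=
    IsPullback.of_right (h₁₂ := pullback.snd (g ≫ f) f) (v₁₃ := f) (h₂₂ := g ≫ f)
      (by rw [hj2]; exact (IsPullback.of_hasPullback (j ≫ g ≫ f) f).flip) hj1
      (IsPullback.of_hasPullback (g ≫ f) f).flip
  have : Flat j' := MorphismProperty.of_isPullback hj3.flip ‹Flat j›
  rw [← hj2]
  refine flat_of_forall_isFlatAt _ fun x => ?_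
  refine (isFlatAt_of_flat j' x).comp (hU _ ?_)
  rw [← Scheme.Hom.comp_apply, hj1, Scheme.Hom.comp_apply]
  exact hj _

/-- Variant with a name for `g ≫ f`. -/
theorem exists_opens' (m : T ⟶ Y) (hm : g ≫ f = m) [LocallyOfFinitePresentation f]
    [LocallyOfFinitePresentation m] [Flat (pullback.fst f f)] (w : ↑(pullback m f))
    (hw : IsFlatAt (pullback.snd m f) w) :
    ∃ U : T.Opens, pullback.fst m f w ∈ U ∧
      ∀ {T' : Scheme.{u}} (j : T' ⟶ T) [Flat j], (∀ x, j x ∈ U) → Flat (pullback.snd (j ≫ m) f) := by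
  subst hm
  obtain ⟨U, h1, -, h3⟩ := exists_opens f g w hw
  exact ⟨U, h1, h3⟩

end Groth.Agent.GrpQ.H774.SliceSat
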